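import Groth.Agent.H27HilbOps.Push
import Mathlib

/-! # Hilbert schemes of points of a family inside those of an ambient scheme -/

set_option autoImplicit false
set_option linter.style.haveILetI false
set_option backward.isDefEq.respectTransparency false
set_option backward.isDefEq.respectTransparency.types false

universe u

open CategoryTheory CategoryTheory.Limits AlgebraicGeometry

namespace Groth.Agent.H27RelHilb

open H27HilbOps

variable {S X B C : Scheme.{u}} (g : X ⟶ S) (b : B ⟶ S) (π : C ⟶ B) (j : C ⟶ X) (h : j ≫ g = π ≫ b)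

/-- A `B`-scheme seen over `S`. -/
abbrev res (T : Over B) : Over S := Over.mk (T.hom ≫ b)

/-- `C ×_B T ⟶ X ×_S T`. -/
noncomputable def χ (T : Over B) : PicF.XT π T ⟶ PicF.XT g (res b T) :=
  pullback.map π T.hom g (T.hom ≫ b) j (𝟙 T.left) b h.symm (Category.id_comp _).symm

@[reassoc]
lemma χ_fst (T : Over B) : χ g b π j h T ≫ pullback.fst g (res b T).hom = pullback.fst π T.hom ≫ j := by
  simp [χ]

@[reassoc]
lemma χ_snd (T : Over B) : χ g b π j h T ≫ pullback.snd g (res b T).hom = pullback.snd π T.hom := by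
  simp [χ]

variable [IsClosedImmersion j] [IsSeparated b]

instance χ_isClosedImmersion (T : Over B) : IsClosedImmersion (χ g b π j h T) := by
  have e : χ g b π j h T = pullback.mapDesc π T.hom b ≫ (pullback.congrHom h.symm rfl).hom ≫
      XTincl j g (res b T) := by
    unfold χ XTincl
    dsimp only [PicF.XT, res, Over.mk_hom, Over.mk_left]
    apply pullback.hom_ext <;> simp
  rw [e]
  infer_instance

/-- Naturality of `χ` is cartesian. -/
lemma isPullback_χ {T T' : Over B} (v : T' ⟶ T) :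
    IsPullback (PicF.XTmap π v) (χ g b π j h T') (χ g b π j h T)
      (PicF.XTmap g (T := res b T) (T' := res b T') (Over.homMk v.left (by simp))) := by
  refine IsPullback.of_bot ?_ ?_ (isPullback_XTmap g (T := res b T) (T' := res b T') (Over.homMk v.left (by simp)))
  · show IsPullback _ (χ g b π j h T' ≫ pullback.snd g (res b T').hom) (χ g b π j h T ≫ pullback.snd g (res b T).hom) _
    rw [χ_snd, χ_snd]
    exact isPullback_XTmap π v
  · apply pullback.hom_ext <;> simp [PicF.XTmap, χ]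

lemma pull_ker_χ {T T' : Over B} (v : T' ⟶ T) :
    HilbD.pull g (T := res b T) (T' := res b T') (Over.homMk v.left (by simp)) (χ g b π j h T).ker =
      (χ g b π j h T').ker := by
  rw [H27HilbOne.pull_eq_comap, ← Scheme.IdealSheafData.ker_fst_of_isClosedImmersion,
    ← Scheme.Hom.ker_comp_of_isIso (isPullback_χ g b π j h v).flip.isoPullback.hom,
    (isPullback_χ g b π j h v).flip.isoPullback_hom_fst]

/-- The image of a family. -/
noncomputable def img (T : Over B) (I : (PicF.XT π T).IdealSheafData) : (PicF.XT g (res b T)).IdealSheafData :=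
  I.map (χ g b π j h T)

lemma img_injective (T : Over B) : Function.Injective (img g b π j h T) := fun I J e => by
  rw [← comap_map_of_isClosedImmersion (χ g b π j h T) I, ← comap_map_of_isClosedImmersion (χ g b π j h T) J]
  exact congrArg (fun K => K.comap (χ g b π j h T)) e

lemma pull_img {T T' : Over B} (v : T' ⟶ T) (I : (PicF.XT π T).IdealSheafData) :
    HilbD.pull g (T := res b T) (T' := res b T') (Over.homMk v.left (by simp)) (img g b π j h T I) =
      img g b π j h T' (HilbD.pull π v I) := by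
  have hle : (χ g b π j h T').ker ≤
      HilbD.pull g (T := res b T) (T' := res b T') (Over.homMk v.left (by simp)) (img g b π j h T I) := by
    rw [← pull_ker_χ g b π j h v]
    exact pull_mono g _ (ker_le_map _ I)
  rw [← map_comap_of_ker_le _ hle, H27HilbOne.pull_eq_comap g, ← Scheme.IdealSheafData.comap_comp,
    ← (isPullback_χ g b π j h v).w, Scheme.IdealSheafData.comap_comp, img,
    comap_map_of_isClosedImmersion, ← H27HilbOne.pull_eq_comap]
  rfl

lemma isFinLocFreeOfDeg_img_iff (d : ℕ) (T : Over B) (I : (PicF.XT π T).IdealSheafData) :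
    Mor2.IsFinLocFreeOfDeg d ((img g b π j h T I).subschemeι ≫ PicF.XTproj g (res b T)) ↔
      Mor2.IsFinLocFreeOfDeg d (I.subschemeι ≫ PicF.XTproj π T) := by
  let k := I.subschemeι ≫ χ g b π j h T
  have hk : k.toImage ≫ (img g b π j h T I).subschemeι ≫ PicF.XTproj g (res b T) =
      I.subschemeι ≫ PicF.XTproj π T := by
    change k.toImage ≫ k.imageι ≫ pullback.snd g (res b T).hom = _
    rw [Scheme.Hom.toImage_imageι_assoc, Category.assoc, χ_snd]
  haveI : IsClosedImmersion k := inferInstanceAs (IsClosedImmersion (_ ≫ _))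
  haveI : IsIso k.toImage := inferInstance
  have key : ∀ {A A' A'' : Scheme.{u}} (e : A ⟶ A') [IsIso e] (p : A' ⟶ A''),
      Mor2.IsFinLocFreeOfDeg d p → Mor2.IsFinLocFreeOfDeg d (e ≫ p) := by
    rintro A A' A'' e _ p ⟨⟨h1, h2, h3⟩, hr⟩
    haveI := h1; haveI := h2; haveI := h3
    exact ⟨⟨inferInstance, inferInstance, inferInstance⟩, fun y => by
      rw [Scheme.Hom.finrank_comp_left_of_isIso, hr]⟩
  constructor
  · intro h'
    exact hk ▸ key k.toImage _ h'
  · intro h'
    rw [← hk] at h'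
    have := key (inv k.toImage) _ h'
    rwa [IsIso.inv_hom_id_assoc] at this

lemma surjective_of_deg {A T : Scheme.{u}} {p : A ⟶ T} {d : ℕ} (hd : 0 < d) (hp : Mor2.IsFinLocFreeOfDeg d p) :
    Surjective p := by
  obtain ⟨-, _, _⟩ := hp.1
  haveI := hp.1.1
  rw [← Scheme.Hom.one_le_finrank_iff_surjective]
  intro t
  rw [hp.2 t]
  exact hd

section lift

/-- The family lies in `C` and over `τ`. -/
def Lifts {T : Over S} (K : (PicF.XT g T).IdealSheafData) (τ : T.left ⟶ B) : Prop :=
  ∃ c : K.subscheme ⟶ C, c ≫ j = K.subschemeι ≫ pullback.fst g T.hom ∧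
    c ≫ π = (K.subschemeι ≫ PicF.XTproj g T) ≫ τ

lemma exists_lift_of_ker_le {A P : Scheme.{u}} (i : A ⟶ P) [IsClosedImmersion i] {K : P.IdealSheafData}
    (hle : i.ker ≤ K) : ∃ l, l ≫ i = K.subschemeι :=
  ⟨IsClosedImmersion.lift i K.subschemeι (hle.trans K.ker_subschemeι.ge), IsClosedImmersion.lift_fac _ _ _⟩

lemma ker_le_of_lift {A P : Scheme.{u}} (i : A ⟶ P) {K : P.IdealSheafData} {l : K.subscheme ⟶ A}
    (hl : l ≫ i = K.subschemeι) : i.ker ≤ K := by
  have := Scheme.Hom.le_ker_comp l i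
  rwa [hl, Scheme.IdealSheafData.ker_subschemeι] at this

lemma pull_sq {T T' : Over S} (w : T' ⟶ T) (K : (PicF.XT g T).IdealSheafData) :
    ∃ a : (HilbD.pull g w K).subscheme ⟶ K.subscheme,
      IsPullback a ((HilbD.pull g w K).subschemeι ≫ PicF.XTproj g T') (K.subschemeι ≫ PicF.XTproj g T) w.left ∧
      a ≫ K.subschemeι ≫ pullback.fst g T.hom = (HilbD.pull g w K).subschemeι ≫ pullback.fst g T'.hom := by
  obtain ⟨a, ha⟩ := exists_isPullback_pull g w K
  refine ⟨a, ha.paste_vert (isPullback_XTmap g w), ?_⟩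
  rw [reassoc_of% ha.w]
  simp [PicF.XTmap]

lemma Lifts.pull {T T' : Over S} {K : (PicF.XT g T).IdealSheafData} {τ : T.left ⟶ B}
    (hK : Lifts g π j K τ) (w : T' ⟶ T) : Lifts g π j (HilbD.pull g w K) (w.left ≫ τ) := by
  obtain ⟨c, hc, hc'⟩ := hK
  obtain ⟨a, ha, ha'⟩ := pull_sq g w K
  exact ⟨a ≫ c, by rw [Category.assoc, hc, ha'],
    by rw [Category.assoc, hc', ← Category.assoc, ha.w, Category.assoc]⟩

include h

lemma Lifts.ker_χ_le {T : Over B} {K : (PicF.XT g (res b T)).IdealSheafData}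
    (hK : Lifts g π j K T.hom) : (χ g b π j h T).ker ≤ K := by
  obtain ⟨c, hc, hc'⟩ := hK
  refine ker_le_of_lift _ (l := pullback.lift c (K.subschemeι ≫ PicF.XTproj g (res b T)) hc') ?_
  apply pullback.hom_ext
  · rw [Category.assoc, χ_fst, pullback.lift_fst_assoc]
    exact hc
  · rw [Category.assoc, χ_snd, pullback.lift_snd]

lemma lifts_img {T : Over B} (I : (PicF.XT π T).IdealSheafData) :
    Lifts g π j (img g b π j h T I) T.hom := by
  obtain ⟨l, hl⟩ := exists_lift_of_ker_le (χ g b π j h T) (K := img g b π j h T I) (ker_le_map _ I)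
  refine ⟨l ≫ pullback.fst π T.hom, ?_, ?_⟩
  · rw [Category.assoc, ← χ_fst g b π j h T, reassoc_of% hl]
  · rw [Category.assoc, pullback.condition, ← χ_snd_assoc g b π j h T, reassoc_of% hl, Category.assoc]

omit h

lemma tau_unique {d : ℕ} (hd : 0 < d) {T : Over S} (K : HilbD.Obj g d T) {t t' : T.left ⟶ B}
    (h₁ : Lifts g π j K.1 t) (h₂ : Lifts g π j K.1 t') : t = t' := by
  obtain ⟨l, hl, hlt⟩ := h₁
  obtain ⟨l', hl', hlt'⟩ := h₂
  obtain ⟨_, _, _⟩ := K.2.1
  haveI := surjective_of_deg hd K.2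
  obtain rfl : l = l' := (cancel_mono j).1 (hl.trans hl'.symm)
  exact (cancel_epi (K.1.subschemeι ≫ PicF.XTproj g T)).1 (hlt.symm.trans hlt')

end lift

include h

theorem isClosedImmersion_of_universal {d : ℕ} (hd : 0 < d) (H : Over S) (Z : HilbD.Obj g d H)
    (hZ : HilbD.IsUniversal g d H Z) (H' : Over B) (Z' : HilbD.Obj π d H')
    (hZ' : HilbD.IsUniversal π d H' Z') (m : res b H' ⟶ H)
    (hm : HilbD.pull g m Z.1 = img g b π j h H' Z'.1) : IsClosedImmersion m.left := by
  -- the families inside `C`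
  obtain ⟨E₁, ι₁, hι₁, h₁⟩ := exists_containLocus g Z.1 (XTincl j g H).ker Z.2.1
  let T₁ : Over S := Over.mk (ι₁ ≫ H.hom)
  let g₁ : T₁ ⟶ H := Over.homMk ι₁ rfl
  let K₁ := pullObj g g₁ Z
  have hK₁ : (XTincl j g T₁).ker ≤ K₁.1 := by
    rw [← pull_ker_XTincl j g g₁]
    exact (h₁ g₁).1 ⟨𝟙 _, Category.id_comp _⟩
  obtain ⟨l₁, hl₁⟩ := exists_lift_of_ker_le _ hK₁
  let c : K₁.1.subscheme ⟶ C := l₁ ≫ pullback.fst (j ≫ g) T₁.hom
  have hc : c ≫ j = K₁.1.subschemeι ≫ pullback.fst g T₁.hom := by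
    rw [← hl₁, Category.assoc, Category.assoc, XTincl_fst]
  let p : K₁.1.subscheme ⟶ E₁ := K₁.1.subschemeι ≫ PicF.XTproj g T₁
  let β := c ≫ π
  have hβ : β ≫ b = p ≫ ι₁ ≫ H.hom := by
    simp only [β, Category.assoc, ← h, reassoc_of% hc]
    exact (congrArg (K₁.1.subschemeι ≫ ·) pullback.condition).trans (Category.assoc _ _ _).symm
  obtain ⟨_, _, _⟩ := (show Mor2.IsFinLocFreeOfDeg d p from K₁.2).1
  -- the families inside a fibre of `π`
  let q : pullback p p ⟶ E₁ := pullback.fst p p ≫ p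
  have hq : Mor2.IsFinLocFree q := ⟨inferInstanceAs (IsFinite (_ ≫ _)), inferInstanceAs (Flat (_ ≫ _)),
    inferInstanceAs (LocallyOfFinitePresentation (_ ≫ _))⟩
  let pr : pullback p p ⟶ pullback b b := pullback.lift (pullback.fst p p ≫ β) (pullback.snd p p ≫ β)
    (((Category.assoc _ _ _).trans (congrArg (pullback.fst p p ≫ ·) hβ)).trans
      ((pullback.condition_assoc _).trans
        ((Category.assoc _ _ _).trans (congrArg (pullback.snd p p ≫ ·) hβ)).symm))
  let D := pullback.fst pr (pullback.diagonal b)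
  have hloc := hasUnivLocally_of_finLocFree q hq D
  let E := H19Grp.univIdeal hloc
  have hE : ∀ {T' : Scheme.{u}} (v : T' ⟶ E₁), (∃ v', v' ≫ E.subschemeι = v) ↔
      pullback.fst q v ≫ pullback.fst p p ≫ β = pullback.fst q v ≫ pullback.snd p p ≫ β := by
    intro T' v
    rw [H19Grp.contains_iff_factors hloc]
    constructor
    · rintro ⟨l, hl⟩
      have e := congr(l ≫ $(pullback.condition (f := pr) (g := pullback.diagonal b)))
      rw [← Category.assoc, hl] at e
      have e1 := congr($e ≫ pullback.fst b b)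
      have e2 := congr($e ≫ pullback.snd b b)
      simp only [pr, Category.assoc, pullback.lift_fst, pullback.lift_snd, pullback.diagonal_fst,
        pullback.diagonal_snd] at e1 e2
      exact e1.trans e2.symm
    · intro e
      refine ⟨pullback.lift (pullback.fst q v) (pullback.fst q v ≫ pullback.fst p p ≫ β) ?_, pullback.lift_fst _ _ _⟩
      apply pullback.hom_ext
      · simp only [pr, Category.assoc, pullback.lift_fst, pullback.diagonal_fst, Category.comp_id]
      · simp only [pr, Category.assoc, pullback.lift_snd, pullback.diagonal_snd, Category.comp_id]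
        exact e.symm
  -- the criterion
  have hfac : ∀ {T : Over S} (v : T ⟶ H) (τ : T.left ⟶ B), Lifts g π j (HilbD.pull g v Z.1) τ →
      ∃ v' : T.left ⟶ E.subscheme, v' ≫ E.subschemeι ≫ ι₁ = v.left := by
    intro T v τ hL
    have hle : HilbD.pull g v (XTincl j g H).ker ≤ HilbD.pull g v Z.1 := by
      rw [pull_ker_XTincl]
      obtain ⟨c', hc', -⟩ := hL
      refine ker_le_of_lift _ (l := pullback.lift c' ((HilbD.pull g v Z.1).subschemeι ≫ PicF.XTproj g T) (by
        rw [← Category.assoc, hc', Category.assoc, Category.assoc, pullback.condition])) ?_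
      apply pullback.hom_ext
      · rw [Category.assoc, XTincl_fst, pullback.lift_fst_assoc]
        exact hc'
      · rw [Category.assoc, XTincl_snd, pullback.lift_snd]
    obtain ⟨v₁, hv₁⟩ := (h₁ v).2 hle
    let vO : T ⟶ T₁ := Over.homMk v₁ (by
      show v₁ ≫ ι₁ ≫ H.hom = _
      rw [reassoc_of% hv₁, Over.w])
    have hvO : vO ≫ g₁ = v := Over.OverMorphism.ext hv₁
    rw [← hvO, pull_comp] at hL
    change Lifts g π j (HilbD.pull g vO K₁.1) τ at hL
    obtain ⟨c', hc', hc''⟩ := hL
    obtain ⟨a, ha, ha'⟩ := pull_sq g vO K₁.1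
    have hac : a ≫ c = c' := (cancel_mono j).1 (by rw [Category.assoc, hc, ha', hc'])
    have key : ∀ {W : Scheme.{u}} (u : W ⟶ K₁.1.subscheme) (w : W ⟶ T.left), u ≫ p = w ≫ v₁ →
        u ≫ β = w ≫ τ := fun u w e => by
      rw [show u = ha.lift u w e ≫ a from (ha.lift_fst _ _ _).symm, Category.assoc, reassoc_of% hac, hc'',
        ← Category.assoc (ha.lift u w e), ha.lift_snd]
    have k1 := key (pullback.fst q v₁ ≫ pullback.fst p p) (pullback.snd q v₁)
      ((Category.assoc _ _ _).trans pullback.condition)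
    have k2 := key (pullback.fst q v₁ ≫ pullback.snd p p) (pullback.snd q v₁)
      (by rw [Category.assoc, ← pullback.condition (f := p)]; exact pullback.condition)
    rw [Category.assoc] at k1 k2
    obtain ⟨v', hv'⟩ := (hE v₁).2 (k1.trans k2.symm)
    exact ⟨v', by rw [reassoc_of% hv', hv₁]⟩
  -- descend
  let T₂ : Over S := Over.mk (E.subschemeι ≫ ι₁ ≫ H.hom)
  let g₂ : T₂ ⟶ T₁ := Over.homMk E.subschemeι rfl
  let K₂ := pullObj g g₂ K₁
  obtain ⟨a, ha, ha'⟩ := pull_sq g g₂ K₁.1
  let p₂ : K₂.1.subscheme ⟶ E.subscheme := K₂.1.subschemeι ≫ PicF.XTproj g T₂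
  obtain ⟨_, _, _⟩ := (show Mor2.IsFinLocFreeOfDeg d p₂ from K₂.2).1
  haveI : Surjective p₂ := surjective_of_deg hd K₂.2
  have hap : a ≫ p = p₂ ≫ E.subschemeι := ha.w
  have hEid := (hE E.subschemeι).1 ⟨𝟙 _, Category.id_comp _⟩
  let t : E.subscheme ⟶ B := EffectiveEpi.desc p₂ (a ≫ β) fun {W} u u' e => by
    have e' : (u ≫ a) ≫ p = (u' ≫ a) ≫ p := by simp only [Category.assoc, hap, reassoc_of% e]
    have := congr(pullback.lift (f := q) (g := E.subschemeι) (pullback.lift (u ≫ a) (u' ≫ a) e') (u ≫ p₂)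
      (by simp [q, hap]) ≫ $hEid)
    simpa only [pullback.lift_fst_assoc, pullback.lift_snd_assoc, Category.assoc] using this
  have htt : p₂ ≫ t = a ≫ β := EffectiveEpi.fac _ _ _
  have htb : t ≫ b = E.subschemeι ≫ ι₁ ≫ H.hom := by
    rw [← cancel_epi p₂, reassoc_of% htt, hβ, reassoc_of% hap]
  let TB : Over B := Over.mk t
  let e₂ : res b TB ⟶ T₂ := Over.homMk (𝟙 _) ((Category.id_comp _).trans htb.symm)
  let e : res b TB ⟶ H := e₂ ≫ g₂ ≫ g₁
  have heL : Lifts g π j (HilbD.pull g e Z.1) t := by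
    have h2 : Lifts g π j (HilbD.pull g g₂ K₁.1) t :=
      ⟨a ≫ c, by rw [Category.assoc, hc, ha'], (Category.assoc _ _ _).trans htt.symm⟩
    have h3 := h2.pull g π j e₂
    rw [pull_comp, pull_comp]
    exact (show (𝟙 E.subscheme) ≫ t = t from Category.id_comp t) ▸ h3
  have hKle := heL.ker_χ_le g b π j h (T := TB)
  let I : HilbD.Obj π d TB := ⟨(HilbD.pull g e Z.1).comap (χ g b π j h TB),
    (isFinLocFreeOfDeg_img_iff g b π j h d TB _).1 (by
      rw [img, map_comap_of_ker_le _ hKle]; exact isFinLocFreeOfDeg_pull g e _ Z.2)⟩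
  have hI : img g b π j h TB I.1 = HilbD.pull g e Z.1 := map_comap_of_ker_le _ hKle
  obtain ⟨n, hn, -⟩ := hZ' TB I
  have hn' : HilbD.pull π n Z'.1 = I.1 := hn
  obtain ⟨v', hv'⟩ := hfac m H'.hom (hm ▸ lifts_img g b π j h Z'.1)
  let nS : res b TB ⟶ res b H' := Over.homMk n.left (by simp)
  have hne : nS ≫ m = e := (hZ _ (pullObj g e Z)).unique (by
    show HilbD.pull g _ _ = _
    rw [pull_comp, hm, pull_img g b π j h n, hn', hI]
    rfl) rfl
  have hne' : n.left ≫ v' = 𝟙 _ := by
    rw [← cancel_mono (E.subschemeι ≫ ι₁), Category.assoc, hv', Category.id_comp]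
    exact (congrArg CommaMorphism.left hne).trans (Category.id_comp _)
  let vS : res b H' ⟶ res b TB := Over.homMk v' (by
    show v' ≫ t ≫ b = _
    rw [htb, reassoc_of% hv', Over.w])
  have hve : vS ≫ e = m := Over.OverMorphism.ext ((congrArg (v' ≫ ·) (Category.id_comp _)).trans hv')
  have hvt : v' ≫ t = H'.hom := by
    refine tau_unique g π j hd (pullObj g m Z) ?_ (by
      show Lifts g π j (HilbD.pull g m Z.1) _
      rw [hm]
      exact lifts_img g b π j h Z'.1)
    show Lifts g π j (HilbD.pull g m Z.1) _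
    rw [← hve, pull_comp]
    exact heL.pull g π j vS
  let vB : H' ⟶ TB := Over.homMk v' hvt
  have hvn : vB ≫ n = 𝟙 H' := (hZ' H' Z').unique (by
    show HilbD.pull π _ _ = _
    refine img_injective g b π j h H' ?_
    rw [pull_comp, hn', ← pull_img g b π j h vB, hI, ← pull_comp]
    show HilbD.pull g (vS ≫ e) Z.1 = _
    rw [hve, hm]) (pull_id π Z'.1)
  haveI : IsIso v' := ⟨n.left, congrArg CommaMorphism.left hvn, hne'⟩
  rw [← hv']
  infer_instance

end Groth.Agent.H27RelHilb
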